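import Groth.Prelude.Def_BigSite
import Mathlib.CategoryTheory.Sites.LocallyBijective
import Mathlib.CategoryTheory.Sites.Limits
import Mathlib.CategoryTheory.Limits.Types.Colimits
import Mathlib.CategoryTheory.Limits.IsConnected

/-!
# Almost cocontinuous functors
-/

set_option autoImplicit false
universe u
open CategoryTheory CategoryTheory.Limits Opposite

namespace K733.AlmostCocont

variable {C D : Type u} [SmallCategory C] [SmallCategory D]
  (J : GrothendieckTopology C) (K : GrothendieckTopology D) (u : C ⥤ D)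

/-- Sections of a sheaf of sets over an object covered by the empty sieve. -/
theorem unique_of_bot_mem (F : Sheaf K (Type u)) (V : D) (h : (⊥ : Sieve V) ∈ K V) :
    Nonempty (Unique (F.obj.obj (op V))) := by
  have hF := (isSheaf_iff_isSheaf_of_type K F.obj).mp F.property ⊥ h
  let x : Presieve.FamilyOfElements F.obj (⊥ : Sieve V).arrows := fun _ _ hf => hf.elim
  have hx : x.Compatible := fun _ _ _ _ _ _ _ hf _ _ => hf.elim
  obtain ⟨t, -, ht⟩ := hF x hx
  exact ⟨⟨⟨t⟩, fun a => ht a fun _ _ hf => hf.elim⟩⟩

variable {J K u}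

theorem W_whiskerLeft (hu : BigSite.IsAlmostCocontinuous u J K) (G : Dᵒᵖ ⥤ Type u)
    (hG : ∀ V : D, (⊥ : Sieve V) ∈ K V → Nonempty (Unique (G.obj (op V)))) :
    J.W (Functor.whiskerLeft u.op (toSheafify K G)) := by
  rw [J.W_iff_isLocallyBijective]
  refine ⟨⟨?_⟩, ⟨?_⟩⟩
  · intro X x y h
    have h1 : Presheaf.equalizerSieve (F := G) (X := op (u.obj X.unop)) x y ∈ K (u.obj X.unop) :=
      Presheaf.equalizerSieve_mem K (toSheafify K G) (X := op (u.obj X.unop)) x y h
    obtain ⟨R', hR', hR''⟩ := hu X.unop _ h1
    refine J.superset_covering ?_ hR'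
    intro V g hg
    rcases hR'' g hg with hb | hb
    · obtain ⟨i⟩ := hG _ hb
      have : Subsingleton (G.obj (op (u.obj V))) := inferInstance
      exact this.elim _ _
    · exact hb
  · intro U s
    have h1 : Presheaf.imageSieve (toSheafify K G) (U := u.obj U) s ∈ K (u.obj U) :=
      Presheaf.imageSieve_mem K (toSheafify K G) (U := op (u.obj U)) s
    obtain ⟨R', hR', hR''⟩ := hu U _ h1
    refine J.superset_covering ?_ hR'
    intro V g hg
    rcases hR'' g hg with hb | hb
    · obtain ⟨i⟩ := hG _ hb
      obtain ⟨i'⟩ := unique_of_bot_mem K ((presheafToSheaf K (Type u)).obj G) _ hb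
      have : Subsingleton ((sheafify K G).obj (op (u.obj V))) :=
        (inferInstance : Subsingleton (((presheafToSheaf K (Type u)).obj G).obj.obj (op (u.obj V))))
      exact ⟨(default : G.obj (op (u.obj V))), this.elim _ _⟩
    · exact hb

variable [u.IsContinuous J K]

theorem isIso_comparison (hu : BigSite.IsAlmostCocontinuous u J K) (G : Dᵒᵖ ⥤ Type u)
    (hG : ∀ V : D, (⊥ : Sieve V) ∈ K V → Nonempty (Unique (G.obj (op V)))) :
    IsIso (((sheafificationAdjunction J (Type u)).homEquiv (u.op ⋙ G)
      ((u.sheafPushforwardContinuous (Type u) J K).obj ((presheafToSheaf K (Type u)).obj G))).symm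
        (Functor.whiskerLeft u.op (toSheafify K G))) := by
  let α : u.op ⋙ G ⟶ (sheafToPresheaf J (Type u)).obj
      ((u.sheafPushforwardContinuous (Type u) J K).obj ((presheafToSheaf K (Type u)).obj G)) :=
    Functor.whiskerLeft u.op (toSheafify K G)
  have h : IsIso ((presheafToSheaf J (Type u)).map α) := (J.W_iff _).mp (W_whiskerLeft hu G hG)
  change IsIso (((sheafificationAdjunction J (Type u)).homEquiv _ _).symm α)
  rw [Adjunction.homEquiv_counit]
  infer_instance

/-- The comparison morphism of cocones. -/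
theorem ι_comparison (G : Dᵒᵖ ⥤ Type u) (F : Sheaf K (Type u)) (f : F.obj ⟶ G)
    (g : F ⟶ (presheafToSheaf K (Type u)).obj G) (hg : g.hom = f ≫ toSheafify K G)
    (g' : (u.sheafPushforwardContinuous (Type u) J K).obj F ⟶ (presheafToSheaf J (Type u)).obj (u.op ⋙ G))
    (hg' : g'.hom = Functor.whiskerLeft u.op f ≫ toSheafify J (u.op ⋙ G)) :
    g' ≫ (((sheafificationAdjunction J (Type u)).homEquiv (u.op ⋙ G)
      ((u.sheafPushforwardContinuous (Type u) J K).obj ((presheafToSheaf K (Type u)).obj G))).symm
        (Functor.whiskerLeft u.op (toSheafify K G))) =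
      (u.sheafPushforwardContinuous (Type u) J K).map g := by
  let α : u.op ⋙ G ⟶ (sheafToPresheaf J (Type u)).obj
      ((u.sheafPushforwardContinuous (Type u) J K).obj ((presheafToSheaf K (Type u)).obj G)) :=
    Functor.whiskerLeft u.op (toSheafify K G)
  change g' ≫ (((sheafificationAdjunction J (Type u)).homEquiv _ _).symm α) = _
  have h1 : toSheafify J (u.op ⋙ G) ≫
      (((sheafificationAdjunction J (Type u)).homEquiv _ _).symm α).hom = α :=
    ((sheafificationAdjunction J (Type u)).homEquiv_unit _ _ _).symm.trans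
      (((sheafificationAdjunction J (Type u)).homEquiv _ _).apply_symm_apply α)
  apply Sheaf.hom_ext
  change g'.hom ≫ (((sheafificationAdjunction J (Type u)).homEquiv _ _).symm α).hom =
    Functor.whiskerLeft u.op g.hom
  rw [hg', hg]
  refine (Category.assoc _ _ _).trans ((congrArg (fun x => Functor.whiskerLeft u.op f ≫ x) h1).trans ?_)
  rfl

omit [u.IsContinuous J K] in
theorem unique_colimit {I : Type} [SmallCategory I] [IsConnected I] (F : I ⥤ Type u) (c : Cocone F)
    (hc : IsColimit c) (h : ∀ i, Nonempty (Unique (F.obj i))) : Nonempty (Unique c.pt) := by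
  let x : ∀ i, F.obj i := fun i => (h i).some.default
  have hx : ∀ i (y : F.obj i), y = x i := fun i y => (h i).some.uniq y
  have key : ∀ i j, c.ι.app i (x i) = c.ι.app j (x j) := by
    refine constant_of_preserves_morphisms (fun i => c.ι.app i (x i)) ?_
    intro i j f
    have h1 := ConcreteCategory.congr_hom (c.w f) (x i)
    change c.ι.app i (x i) = c.ι.app j (x j)
    rw [← h1, ← hx j (F.map f (x i))]
    rfl
  obtain ⟨i₀⟩ : Nonempty I := inferInstance
  refine ⟨⟨⟨c.ι.app i₀ (x i₀)⟩, fun a => ?_⟩⟩
  obtain ⟨j, y, rfl⟩ := Types.jointly_surjective_of_isColimit hc a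
  rw [hx j y]
  exact key _ _

theorem preservesColimitsOfShape (hu : BigSite.IsAlmostCocontinuous u J K) (I : Type) [SmallCategory I]
    [FinCategory I] [IsConnected I] :
    PreservesColimitsOfShape I (u.sheafPushforwardContinuous (Type u) J K) where
  preservesColimit {F} := by
    let E := colimit.cocone (F ⋙ sheafToPresheaf K (Type u))
    let hE : IsColimit E := colimit.isColimit (F ⋙ sheafToPresheaf K (Type u))
    refine preservesColimit_of_preserves_colimit_cocone (Sheaf.isColimitSheafifyCocone E hE) ?_
    let W := (Functor.whiskeringLeft _ _ (Type u)).obj u.op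
    let E' : Cocone ((F ⋙ u.sheafPushforwardContinuous (Type u) J K) ⋙ sheafToPresheaf J (Type u)) :=
      W.mapCocone E
    have hE' : IsColimit E' := isColimitOfPreserves W hE
    have hG : ∀ V : D, (⊥ : Sieve V) ∈ K V → Nonempty (Unique (E.pt.obj (op V))) := by
      intro V hV
      exact unique_colimit _ _ (isColimitOfPreserves ((evaluation _ _).obj (op V)) hE)
        fun i => unique_of_bot_mem K (F.obj i) V hV
    have h1 := isIso_comparison hu E.pt hG
    refine IsColimit.ofIsoColimit (Sheaf.isColimitSheafifyCocone E' hE') (Cocone.ext (@asIso _ _ _ _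
      (((sheafificationAdjunction J (Type u)).homEquiv (u.op ⋙ E.pt)
      ((u.sheafPushforwardContinuous (Type u) J K).obj ((presheafToSheaf K (Type u)).obj E.pt))).symm
        (Functor.whiskerLeft u.op (toSheafify K E.pt))) h1) ?_)
    intro i
    exact ι_comparison E.pt (F.obj i) (E.ι.app i) ((Sheaf.sheafifyCocone E).ι.app i)
      (Sheaf.sheafifyCocone_ι_app_val E i) ((Sheaf.sheafifyCocone E').ι.app i)
      (Sheaf.sheafifyCocone_ι_app_val E' i)

end K733.AlmostCocont
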